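import Cfsg.Agent.Spor.HYs.D0

set_option autoImplicit false
set_option maxRecDepth 100000000
set_option Elab.async false

namespace Cfsg.Agent.Spor.HYs

theorem ok0 : Net.okb 9 n0 = true := by decide +kernel

theorem ok1 : Net.okb 9 n1 = true := by decide +kernel

theorem ok2 : Net.okb 9 n2 = true := by decide +kernel

theorem rel0 : T.rel 9 [1, 1] 0 9 = true := by decide +kernel

theorem rel1 : T.rel 9 [2, 2] 0 9 = true := by decide +kernel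

theorem rel2 : T.rel 9 [3, 3] 0 9 = true := by decide +kernel

theorem rel3 : T.rel 9 [2, 1, 2, 1, 2, 1, 2, 1] 0 9 = true := by decide +kernel

theorem rel4 : T.rel 9 [3, 2, 3, 2, 3, 2, 3, 2] 0 9 = true := by decide +kernel

theorem rel5 : T.rel 9 [2, 3, 1, 2, 3, 1, 3, 2, 1, 3, 2, 1] 0 9 = true := by decide +kernel

theorem rel6 : T.rel 9 [3, 1, 2, 3, 2, 1, 3, 1, 2, 3, 2, 1] 0 9 = true := by decide +kernel

theorem hcov : T.treeCov (ones 512) L 1 = true := by decide +kernel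

theorem hg : lall (fun z => band (memL L z) (band (sub (ones 512) (T.let z).cl) (T.closed (ones 512) z))) gs = true := by decide +kernel

theorem rot1_1 : T.rot 1 [1] (sel (ones 512) ip1 1) = true := by decide +kernel

theorem rot1_1r : band (Rule.ok (2 * 3) EX RL ⟨1 :: [1], [], 4, false⟩) (lall (memL L) [1]) = true := by decide +kernel

theorem rot1_2 : T.rot 1 [2, 1, 2, 1, 2, 1, 2] (sel (ones 512) ip1 2) = true := by decide +kernel

theorem rot1_2r : band (Rule.ok (2 * 3) EX RL ⟨1 :: [2, 1, 2, 1, 2, 1, 2], [], 0, false⟩) (lall (memL L) [2, 1, 2, 1, 2, 1, 2]) = true := by decide +kernel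

theorem rot1_3 : T.rot 1 [2, 3, 1, 3, 2, 1, 3, 2, 1, 2, 3] (sel (ones 512) ip1 3) = true := by decide +kernel

theorem rot1_3r : band (Rule.ok (2 * 3) EX RL ⟨1 :: [2, 3, 1, 3, 2, 1, 3, 2, 1, 2, 3], [2, 4], 2, true⟩) (lall (memL L) [2, 3, 1, 3, 2, 1, 3, 2, 1, 2, 3]) = true := by decide +kernel

theorem rot1_4 : T.rot 1 [3, 2, 1, 3, 2, 1, 2, 3, 1, 2, 3] (sel (ones 512) ip1 4) = true := by decide +kernel

theorem rot1_4r : band (Rule.ok (2 * 3) EX RL ⟨1 :: [3, 2, 1, 3, 2, 1, 2, 3, 1, 2, 3], [2, 4, 0, 2, 4], 2, true⟩) (lall (memL L) [3, 2, 1, 3, 2, 1, 2, 3, 1, 2, 3]) = true := by decide +kernel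

theorem rot1_5 : T.rot 1 [3, 2, 1, 2, 3, 1, 2, 3, 1, 3, 2] (sel (ones 512) ip1 5) = true := by decide +kernel

theorem rot1_5r : band (Rule.ok (2 * 3) EX RL ⟨1 :: [3, 2, 1, 2, 3, 1, 2, 3, 1, 3, 2], [2, 4, 0], 2, false⟩) (lall (memL L) [3, 2, 1, 2, 3, 1, 2, 3, 1, 3, 2]) = true := by decide +kernel

theorem rot1_6 : T.rot 1 [2, 3, 1, 2, 3, 1, 3, 2, 1, 3, 2] (sel (ones 512) ip1 6) = true := by decide +kernel

theorem rot1_6r : band (Rule.ok (2 * 3) EX RL ⟨1 :: [2, 3, 1, 2, 3, 1, 3, 2, 1, 3, 2], [], 2, false⟩) (lall (memL L) [2, 3, 1, 2, 3, 1, 3, 2, 1, 3, 2]) = true := by decide +kernel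

theorem rot1_7 : T.rot 1 [2, 3, 2, 1, 3, 1, 2, 3, 2, 1, 3] (sel (ones 512) ip1 7) = true := by decide +kernel

theorem rot1_7r : band (Rule.ok (2 * 3) EX RL ⟨1 :: [2, 3, 2, 1, 3, 1, 2, 3, 2, 1, 3], [], 3, false⟩) (lall (memL L) [2, 3, 2, 1, 3, 1, 2, 3, 2, 1, 3]) = true := by decide +kernel

theorem rot1_8 : T.rot 1 [3, 1, 2, 3, 2, 1, 3, 1, 2, 3, 2] (sel (ones 512) ip1 8) = true := by decide +kernel

theorem rot1_8r : band (Rule.ok (2 * 3) EX RL ⟨1 :: [3, 1, 2, 3, 2, 1, 3, 1, 2, 3, 2], [0], 3, true⟩) (lall (memL L) [3, 1, 2, 3, 2, 1, 3, 1, 2, 3, 2]) = true := by decide +kernel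

theorem cov1 : T.cover 1 [(sel (ones 512) ip1 1), (sel (ones 512) ip1 2), (sel (ones 512) ip1 3), (sel (ones 512) ip1 4), (sel (ones 512) ip1 5), (sel (ones 512) ip1 6), (sel (ones 512) ip1 7), (sel (ones 512) ip1 8)] = true := by decide +kernel

theorem tl1 : T.treeLt 9 1 = true := by decide +kernel

theorem rot2_1 : T.rot 2 [2] (sel (ones 512) ip2 1) = true := by decide +kernel

theorem rot2_1r : band (Rule.ok (2 * 3) EX RL ⟨2 :: [2], [], 4, false⟩) (lall (memL L) [2]) = true := by decide +kernel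

theorem rot2_2 : T.rot 2 [1, 2, 1, 2, 1, 2, 1] (sel (ones 512) ip2 2) = true := by decide +kernel

theorem rot2_2r : band (Rule.ok (2 * 3) EX RL ⟨2 :: [1, 2, 1, 2, 1, 2, 1], [], 0, true⟩) (lall (memL L) [1, 2, 1, 2, 1, 2, 1]) = true := by decide +kernel

theorem rot2_3 : T.rot 2 [3, 2, 3, 2, 3, 2, 3] (sel (ones 512) ip2 3) = true := by decide +kernel

theorem rot2_3r : band (Rule.ok (2 * 3) EX RL ⟨2 :: [3, 2, 3, 2, 3, 2, 3], [], 1, false⟩) (lall (memL L) [3, 2, 3, 2, 3, 2, 3]) = true := by decide +kernel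

theorem rot2_4 : T.rot 2 [3, 1, 2, 3, 1, 3, 2, 1, 3, 2, 1] (sel (ones 512) ip2 4) = true := by decide +kernel

theorem rot2_4r : band (Rule.ok (2 * 3) EX RL ⟨2 :: [3, 1, 2, 3, 1, 3, 2, 1, 3, 2, 1], [], 2, true⟩) (lall (memL L) [3, 1, 2, 3, 1, 3, 2, 1, 3, 2, 1]) = true := by decide +kernel

theorem rot2_5 : T.rot 2 [3, 1, 3, 2, 1, 3, 2, 1, 2, 3, 1] (sel (ones 512) ip2 5) = true := by decide +kernel

theorem rot2_5r : band (Rule.ok (2 * 3) EX RL ⟨2 :: [3, 1, 3, 2, 1, 3, 2, 1, 2, 3, 1], [2, 4, 0], 2, true⟩) (lall (memL L) [3, 1, 3, 2, 1, 3, 2, 1, 2, 3, 1]) = true := by decide +kernel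

theorem rot2_6 : T.rot 2 [1, 3, 2, 1, 2, 3, 1, 2, 3, 1, 3] (sel (ones 512) ip2 6) = true := by decide +kernel

theorem rot2_6r : band (Rule.ok (2 * 3) EX RL ⟨2 :: [1, 3, 2, 1, 2, 3, 1, 2, 3, 1, 3], [2, 4, 0, 2], 2, false⟩) (lall (memL L) [1, 3, 2, 1, 2, 3, 1, 2, 3, 1, 3]) = true := by decide +kernel

theorem rot2_7 : T.rot 2 [1, 2, 3, 1, 2, 3, 1, 3, 2, 1, 3] (sel (ones 512) ip2 7) = true := by decide +kernel

theorem rot2_7r : band (Rule.ok (2 * 3) EX RL ⟨2 :: [1, 2, 3, 1, 2, 3, 1, 3, 2, 1, 3], [2], 2, false⟩) (lall (memL L) [1, 2, 3, 1, 2, 3, 1, 3, 2, 1, 3]) = true := by decide +kernel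

theorem rot2_8 : T.rot 2 [3, 2, 1, 3, 1, 2, 3, 2, 1, 3, 1] (sel (ones 512) ip2 8) = true := by decide +kernel

theorem rot2_8r : band (Rule.ok (2 * 3) EX RL ⟨2 :: [3, 2, 1, 3, 1, 2, 3, 2, 1, 3, 1], [0], 3, false⟩) (lall (memL L) [3, 2, 1, 3, 1, 2, 3, 2, 1, 3, 1]) = true := by decide +kernel

theorem rot2_9 : T.rot 2 [1, 3, 1, 2, 3, 2, 1, 3, 1, 2, 3] (sel (ones 512) ip2 9) = true := by decide +kernel

theorem rot2_9r : band (Rule.ok (2 * 3) EX RL ⟨2 :: [1, 3, 1, 2, 3, 2, 1, 3, 1, 2, 3], [0, 2], 3, true⟩) (lall (memL L) [1, 3, 1, 2, 3, 2, 1, 3, 1, 2, 3]) = true := by decide +kernel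

theorem cov2 : T.cover 2 [(sel (ones 512) ip2 1), (sel (ones 512) ip2 2), (sel (ones 512) ip2 3), (sel (ones 512) ip2 4), (sel (ones 512) ip2 5), (sel (ones 512) ip2 6), (sel (ones 512) ip2 7), (sel (ones 512) ip2 8), (sel (ones 512) ip2 9)] = true := by decide +kernel

theorem tl2 : T.treeLt 9 2 = true := by decide +kernel

theorem rot3_1 : T.rot 3 [3] (sel (ones 512) ip3 1) = true := by decide +kernel

theorem rot3_1r : band (Rule.ok (2 * 3) EX RL ⟨3 :: [3], [], 4, false⟩) (lall (memL L) [3]) = true := by decide +kernel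

theorem rot3_2 : T.rot 3 [2, 3, 2, 3, 2, 3, 2] (sel (ones 512) ip3 2) = true := by decide +kernel

theorem rot3_2r : band (Rule.ok (2 * 3) EX RL ⟨3 :: [2, 3, 2, 3, 2, 3, 2], [], 1, true⟩) (lall (memL L) [2, 3, 2, 3, 2, 3, 2]) = true := by decide +kernel

theorem rot3_3 : T.rot 3 [1, 2, 3, 1, 3, 2, 1, 3, 2, 1, 2] (sel (ones 512) ip3 3) = true := by decide +kernel

theorem rot3_3r : band (Rule.ok (2 * 3) EX RL ⟨3 :: [1, 2, 3, 1, 3, 2, 1, 3, 2, 1, 2], [2], 2, true⟩) (lall (memL L) [1, 2, 3, 1, 3, 2, 1, 3, 2, 1, 2]) = true := by decide +kernel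

theorem rot3_4 : T.rot 3 [1, 3, 2, 1, 3, 2, 1, 2, 3, 1, 2] (sel (ones 512) ip3 4) = true := by decide +kernel

theorem rot3_4r : band (Rule.ok (2 * 3) EX RL ⟨3 :: [1, 3, 2, 1, 3, 2, 1, 2, 3, 1, 2], [2, 4, 0, 2], 2, true⟩) (lall (memL L) [1, 3, 2, 1, 3, 2, 1, 2, 3, 1, 2]) = true := by decide +kernel

theorem rot3_5 : T.rot 3 [2, 1, 3, 2, 1, 2, 3, 1, 2, 3, 1] (sel (ones 512) ip3 5) = true := by decide +kernel

theorem rot3_5r : band (Rule.ok (2 * 3) EX RL ⟨3 :: [2, 1, 3, 2, 1, 2, 3, 1, 2, 3, 1], [2, 4, 0, 2, 4], 2, false⟩) (lall (memL L) [2, 1, 3, 2, 1, 2, 3, 1, 2, 3, 1]) = true := by decide +kernel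

theorem rot3_6 : T.rot 3 [2, 1, 2, 3, 1, 2, 3, 1, 3, 2, 1] (sel (ones 512) ip3 6) = true := by decide +kernel

theorem rot3_6r : band (Rule.ok (2 * 3) EX RL ⟨3 :: [2, 1, 2, 3, 1, 2, 3, 1, 3, 2, 1], [2, 4], 2, false⟩) (lall (memL L) [2, 1, 2, 3, 1, 2, 3, 1, 3, 2, 1]) = true := by decide +kernel

theorem rot3_7 : T.rot 3 [1, 2, 3, 2, 1, 3, 1, 2, 3, 2, 1] (sel (ones 512) ip3 7) = true := by decide +kernel

theorem rot3_7r : band (Rule.ok (2 * 3) EX RL ⟨3 :: [1, 2, 3, 2, 1, 3, 1, 2, 3, 2, 1], [], 3, true⟩) (lall (memL L) [1, 2, 3, 2, 1, 3, 1, 2, 3, 2, 1]) = true := by decide +kernel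

theorem rot3_8 : T.rot 3 [2, 1, 3, 1, 2, 3, 2, 1, 3, 1, 2] (sel (ones 512) ip3 8) = true := by decide +kernel

theorem rot3_8r : band (Rule.ok (2 * 3) EX RL ⟨3 :: [2, 1, 3, 1, 2, 3, 2, 1, 3, 1, 2], [0, 2], 3, false⟩) (lall (memL L) [2, 1, 3, 1, 2, 3, 2, 1, 3, 1, 2]) = true := by decide +kernel

theorem cov3 : T.cover 3 [(sel (ones 512) ip3 1), (sel (ones 512) ip3 2), (sel (ones 512) ip3 3), (sel (ones 512) ip3 4), (sel (ones 512) ip3 5), (sel (ones 512) ip3 6), (sel (ones 512) ip3 7), (sel (ones 512) ip3 8)] = true := by decide +kernel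

theorem tl3 : T.treeLt 9 3 = true := by decide +kernel

end Cfsg.Agent.Spor.HYs
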